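import Groth.Agent.H23.AMonExt
import Groth.Agent.H28.MagnetFixed
import Mathlib.CategoryTheory.Limits.Types.Pullbacks

/-!
# Attractors of closed stable subschemes

An attractor point of `Y` whose value at the unit section lies in a closed stable subscheme `X` factors
through `X`, since `A(M)_T ⟶ A(N)_T` is schematically dominant.
-/

set_option autoImplicit false

universe u

open CategoryTheory CategoryTheory.Limits MonoidalCategory CartesianMonoidalCategory MonObj AlgebraicGeometry
open Opposite Magnet

namespace Groth.Agent.MagnetLib.Atlas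

open H23.CharPts H23.AttrComapGrp

variable {S : Scheme.{u}} {M : Type} [AddCommMonoid M] {N : AddSubmonoid M}

/-- The value of an attractor point on the image of a point of `A(M)_S` is the orbit of its value at one. -/
theorem point_act {X : Over S} (a : MonAct (AMonS S M) X) {T : Over S} (φ : (attr a N).obj (op T)) {T' : Over S}
    (g : T' ⟶ AMonS S M) (t : T' ⟶ T) :
    lift (g ≫ AMonS.map S N.subtype) t ≫ φ.1 = lift g (t ≫ (attrToX a N).app (op T) φ) ≫ a.act := by
  have h1 := (MonAct.mem_eqvHom_iff φ.1).mp φ.2 T' g 1 t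
  rw [subAct_point, _root_.mul_one] at h1
  rw [h1]
  congr 2
  show _ = t ≫ lift (toUnit T ≫ η[AMonS S N]) (𝟙 T) ≫ φ.1
  rw [comp_lift_assoc, Category.comp_id, ← Category.assoc t, comp_toUnit, ← Hom.one_def]

theorem isPullback_closed {X Y : Over S} (aX : MonAct (AMonS S M) X) (aY : MonAct (AMonS S M) Y) (f : X ⟶ Y)
    (hf : MonAct.IsEquivariant aX aY f) [IsClosedImmersion f.left] :
    IsPullback (MonAct.eqvHom.postcomp (subAct S M N) f hf) (attrToX aX N) (attrToX aY N) (yoneda.map f) := by
  haveI : Mono f := (Over.forget S).mono_of_mono_map (inferInstanceAs (Mono f.left))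
  refine IsPullback.of_forall_isPullback_app fun T => ?_
  rw [CategoryTheory.Limits.Types.isPullback_iff]
  refine ⟨?_, fun χ χ' h => Subtype.ext ((cancel_mono f).mp (congrArg Subtype.val h.1)), fun φ x h => ?_⟩
  · ext φ
    exact (Category.assoc (lift (toUnit (unop T) ≫ η[AMonS S N]) (𝟙 (unop T))) φ.1 f).symm
  · replace h : (attrToX aY N).app (op (unop T)) φ = x ≫ f := h
    have hg : ((AMonS S M ◁ x) ≫ aX.act) ≫ f = (AMonS.map S N.subtype ▷ unop T) ≫ φ.1 := by
      apply hom_ext_lift₂
      intro V g t
      rw [lift_whiskerRight_assoc, point_act, h, Category.assoc, hf, lift_whiskerLeft_assoc,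
        lift_whiskerLeft_assoc, Category.assoc]
    obtain ⟨k, hk⟩ := H23.AMonExt.exists_lift_AMonS_map N.subtype Subtype.val_injective (unop T) f φ.1 _ hg
    have heq : MonAct.IsEquivariant ((subAct S M N).prod (MonAct.trivial (AMonS S M) (unop T))) aX k := by
      rw [MonAct.mem_eqvHom_iff]
      intro V g b t
      rw [← cancel_mono f, Category.assoc, Category.assoc, hk, hf, lift_whiskerLeft_assoc, Category.assoc, hk]
      exact (MonAct.mem_eqvHom_iff φ.1).mp φ.2 V g b t
    refine ⟨⟨k, heq⟩, Subtype.ext hk, ?_⟩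
    show lift (toUnit (unop T) ≫ η[AMonS S N]) (𝟙 (unop T)) ≫ k = x
    rw [← cancel_mono f, Category.assoc, hk]
    exact h

end Groth.Agent.MagnetLib.Atlas
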