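import Groth.Agent.MagnetLib.VB.Core
import Mathlib.RingTheory.Polynomial.Basic
import Mathlib.Topology.Connected.Basic
import Mathlib.AlgebraicGeometry.ResidueField

/-!
# The attractor retracts onto the attractor of a face through lines, so has connected fibres over it
-/

set_option autoImplicit false
set_option linter.style.haveILetI false

universe u

open CategoryTheory CategoryTheory.Limits MonoidalCategory CartesianMonoidalCategory MonObj AlgebraicGeometry
open Opposite Magnet

namespace Groth.Agent.MagnetLib.Atlas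

variable {S : Scheme.{u}} {M : Type} [AddCommGroup M] [AddGroup.FG M] {N F : AddSubmonoid M} {X : Over S}
  (a : MonAct (AMonS S M) X)

theorem connected_fibres (hN : N.FG) (hF : IsFace N F) {ZN Z0 : Over S} (eN : (attr a N).RepresentableBy ZN)
    (e0 : (attr a F).RepresentableBy Z0) (j : ZN ⟶ Z0)
    (hj : ∀ (T : Over S) (z : T ⟶ ZN), e0.homEquiv (z ≫ j) = (attrFace a hF).app (op T) (eN.homEquiv z)) :
    (∀ (K : Type u) [Field K] (k : Spec (CommRingCat.of K) ⟶ Z0.left), ConnectedSpace ↥(Limits.pullback j.left k)) ∧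
      Function.Bijective (Continuous.connectedComponentsMap (Scheme.Hom.continuous j.left)) := by
  obtain ⟨δ, δnat, δ0, δ1, δc, δf⟩ := VB.exists_homotopy_comp hN hF a
  let sec : Z0 ⟶ ZN := eN.homEquiv.symm ((attrMap a hF.le).app (op Z0) (e0.homEquiv (𝟙 Z0)))
  have hsec : ∀ (T : Over S) (t : T ⟶ Z0), eN.homEquiv (t ≫ sec) = (attrMap a hF.le).app (op T) (e0.homEquiv t) :=
    fun T t => by
      rw [eN.homEquiv_comp, Equiv.apply_symm_apply, e0.homEquiv_eq t]
      exact (ConcreteCategory.congr_hom ((attrMap a hF.le).naturality t.op) _).symm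
  have hsj : sec ≫ j = 𝟙 Z0 := by
    apply e0.homEquiv.injective
    rw [hj, Equiv.apply_symm_apply]
    exact ConcreteCategory.congr_hom (NatTrans.congr_app (attrMap_comp_attrFace a hF) (op Z0)) _
  -- lines
  have hline : ∀ (K : Type u) [Field K] (g : Spec (CommRingCat.of K) ⟶ ZN.left),
      ∃ H : Spec (CommRingCat.of (Polynomial K)) ⟶ ZN.left,
        Spec.map (CommRingCat.ofHom (Polynomial.evalRingHom (1 : K))) ≫ H = g ∧
        Spec.map (CommRingCat.ofHom (Polynomial.evalRingHom (0 : K))) ≫ H = g ≫ j.left ≫ sec.left ∧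
        H ≫ j.left = Spec.map (CommRingCat.ofHom (Polynomial.C : K →+* Polynomial K)) ≫ g ≫ j.left := by
    intro K _ g
    let T : Over S := Over.mk (g ≫ ZN.hom)
    let pr := CommRingCat.ofHom (Polynomial.C : K →+* Polynomial K)
    let T1 : Over S := Over.mk (Spec.map pr ≫ g ≫ ZN.hom)
    let p : T1 ⟶ T := Over.homMk (Spec.map pr) rfl
    let g' : T ⟶ ZN := Over.homMk g rfl
    let c : Γ(T1.left, ⊤) := (Scheme.ΓSpecIso (CommRingCat.of (Polynomial K))).inv Polynomial.X
    let H : T1 ⟶ ZN := eN.homEquiv.symm (δ T1 ((attr a N).map p.op (eN.homEquiv g')) c)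
    have hev : ∀ (r : K), ∃ u : T ⟶ T1, u.left = Spec.map (CommRingCat.ofHom (Polynomial.evalRingHom r)) ∧
        eN.homEquiv (u ≫ H) = δ T (eN.homEquiv g') ((Scheme.ΓSpecIso (CommRingCat.of K)).inv r) := by
      intro r
      let ev := CommRingCat.ofHom (Polynomial.evalRingHom r)
      have hpe : pr ≫ ev = 𝟙 _ := CommRingCat.hom_ext (RingHom.ext fun x => Polynomial.eval_C)
      let u : T ⟶ T1 := Over.homMk (Spec.map ev) (by
        show Spec.map ev ≫ Spec.map pr ≫ g ≫ ZN.hom = g ≫ ZN.hom
        rw [← Category.assoc, ← Spec.map_comp, hpe, Spec.map_id, Category.id_comp])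
      have hup : u ≫ p = 𝟙 T := Over.OverMorphism.ext (by
        show Spec.map ev ≫ Spec.map pr = 𝟙 _
        rw [← Spec.map_comp, hpe, Spec.map_id])
      refine ⟨u, rfl, ?_⟩
      rw [eN.homEquiv_comp, Equiv.apply_symm_apply, ← δnat, ← eN.homEquiv_comp, ← eN.homEquiv_comp,
        ← Category.assoc, hup, Category.id_comp]
      congr 1
      refine (ConcreteCategory.congr_hom (Scheme.ΓSpecIso_inv_naturality ev) Polynomial.X).symm.trans ?_
      exact congrArg (Scheme.ΓSpecIso (CommRingCat.of K)).inv (Polynomial.eval_X (x := r))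
    refine ⟨H.left, ?_, ?_, ?_⟩
    · obtain ⟨u, hu, hH⟩ := hev 1
      rw [map_one, δ1] at hH
      rw [← hu, ← Over.comp_left, eN.homEquiv.injective hH]
      rfl
    · obtain ⟨u, hu, hH⟩ := hev 0
      rw [map_zero, δ0, ← hj, ← hsec] at hH
      rw [← hu, ← Over.comp_left, eN.homEquiv.injective hH]
      exact Category.assoc g j.left sec.left
    · have hHj : H ≫ j = (p ≫ g') ≫ j := by
        apply e0.homEquiv.injective
        rw [hj, hj, Equiv.apply_symm_apply, δf, eN.homEquiv_comp]
      exact (congrArg Over.Hom.left hHj).trans (Category.assoc _ _ _)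
  have hconn : ∀ {K : Type u} [Field K] {Y : Scheme.{u}} (h : Spec (CommRingCat.of (Polynomial K)) ⟶ Y)
      (p q : Spec (CommRingCat.of K) ⟶ Spec (CommRingCat.of (Polynomial K))) (x y : ↥(Spec (CommRingCat.of K))),
      (p ≫ h) x ∈ connectedComponent ((q ≫ h) y) := fun {K} _ {Y} h p q x y => by
    haveI : IrreducibleSpace ↥(Spec (CommRingCat.of (Polynomial K))) :=
      inferInstanceAs (IrreducibleSpace (PrimeSpectrum (Polynomial K)))
    exact (isPreconnected_range h.continuous).subset_connectedComponent ⟨q y, rfl⟩ ⟨p x, rfl⟩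
  constructor
  · intro K _ k
    let k' : Over.mk (k ≫ Z0.hom) ⟶ Z0 := Over.homMk k rfl
    let s0 : Spec (CommRingCat.of K) ⟶ Limits.pullback j.left k := pullback.lift (k ≫ sec.left) (𝟙 _) (by
      rw [Category.assoc, ← Over.comp_left, hsj, Category.id_comp]
      exact Category.comp_id k)
    let o : ↥(Spec (CommRingCat.of K)) := default
    refine connectedSpace_iff_connectedComponent.mpr ⟨s0 o, Set.eq_univ_iff_forall.mpr fun y => ?_⟩
    let P := Limits.pullback j.left k
    let i := P.fromSpecResidueField y
    obtain ⟨H, h1, h0, hj'⟩ := hline (P.residueField y) (i ≫ pullback.fst _ _)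
    let H' : Spec (CommRingCat.of (Polynomial (P.residueField y))) ⟶ P :=
      pullback.lift H (Spec.map (CommRingCat.ofHom Polynomial.C) ≫ i ≫ pullback.snd _ _) (by
        rw [hj', Category.assoc, Category.assoc, Category.assoc, pullback.condition])
    have hpe : ∀ r : P.residueField y, Spec.map (CommRingCat.ofHom (Polynomial.evalRingHom r)) ≫
        Spec.map (CommRingCat.ofHom Polynomial.C) = 𝟙 _ := fun r => by
      rw [← Spec.map_comp, ← Spec.map_id]
      congr 1
      exact CommRingCat.hom_ext (RingHom.ext fun x => Polynomial.eval_C)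
    have e1 : Spec.map (CommRingCat.ofHom (Polynomial.evalRingHom (1 : P.residueField y))) ≫ H' = i := by
      apply pullback.hom_ext
      · rw [Category.assoc, pullback.lift_fst, h1]
      · rw [Category.assoc, pullback.lift_snd, reassoc_of% (hpe 1)]
    have e0' : Spec.map (CommRingCat.ofHom (Polynomial.evalRingHom (0 : P.residueField y))) ≫ H' =
        (i ≫ pullback.snd _ _) ≫ s0 := by
      apply pullback.hom_ext
      · rw [Category.assoc, pullback.lift_fst, h0, Category.assoc (i ≫ _), pullback.lift_fst, Category.assoc,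
          Category.assoc, pullback.condition_assoc]
      · rw [Category.assoc, pullback.lift_snd, reassoc_of% (hpe 0), Category.assoc (i ≫ _), pullback.lift_snd,
          Category.comp_id]
    let o' : ↥(Spec (P.residueField y)) := default
    have := hconn H' (Spec.map (CommRingCat.ofHom (Polynomial.evalRingHom 1)))
      (Spec.map (CommRingCat.ofHom (Polynomial.evalRingHom 0))) o' o'
    rw [e1, e0', Scheme.fromSpecResidueField_apply, Scheme.Hom.comp_apply,
      Subsingleton.elim ((i ≫ pullback.snd _ _) o') o] at this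
    exact this
  · have key : ∀ x : ZN.left, connectedComponent x = connectedComponent (sec.left (j.left x)) := fun x => by
      obtain ⟨H, h1, h0, -⟩ := hline (ZN.left.residueField x) (ZN.left.fromSpecResidueField x)
      let o' : ↥(Spec (ZN.left.residueField x)) := default
      have := hconn H (Spec.map (CommRingCat.ofHom (Polynomial.evalRingHom 1)))
        (Spec.map (CommRingCat.ofHom (Polynomial.evalRingHom 0))) o' o'
      rw [h1, h0, Scheme.Hom.comp_apply, Scheme.Hom.comp_apply, Scheme.fromSpecResidueField_apply] at this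
      exact (connectedComponent_eq this).symm
    have hsj' : ∀ z, j.left (sec.left z) = z := fun z => by
      rw [← Scheme.Hom.comp_apply, ← Over.comp_left, hsj]; rfl
    refine ⟨fun c c' h => ?_, fun c => ?_⟩
    · obtain ⟨x, rfl⟩ := _root_.ConnectedComponents.surjective_coe c
      obtain ⟨x', rfl⟩ := _root_.ConnectedComponents.surjective_coe c'
      refine _root_.ConnectedComponents.coe_eq_coe.mpr ?_
      rw [key x, key x']
      refine connectedComponent_eq ?_
      exact (Scheme.Hom.continuous sec.left).image_connectedComponent_subset _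
        ⟨j.left x', _root_.ConnectedComponents.coe_eq_coe'.mp h.symm, rfl⟩
    · obtain ⟨z, rfl⟩ := _root_.ConnectedComponents.surjective_coe c
      exact ⟨(sec.left z : _root_.ConnectedComponents ZN.left), congrArg _root_.ConnectedComponents.mk (hsj' z)⟩

end Groth.Agent.MagnetLib.Atlas
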