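import Groth.Agent.H28.MagnetFixed
import Groth.Agent.H28.MagnetRep
import Groth.Agent.H28.StableFace
import Groth.Agent.S18294
import Groth.Agent.S18302
import Groth.Prelude.Def_AlgSp
import Groth.Prelude.Def_Magnet3
import Mathlib.AlgebraicGeometry.Morphisms.Etale
import Mathlib.CategoryTheory.Sites.SheafOfTypes

/-!
# Lifting attractor points to an atlas which reflects fixed points
-/

set_option autoImplicit false
set_option linter.style.haveILetI false

universe u

open CategoryTheory CategoryTheory.Limits MonoidalCategory CartesianMonoidalCategory MonObj AlgebraicGeometry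
open Opposite Magnet

namespace Groth.Agent.MagnetLib.Atlas

variable {S : Scheme.{u}}

theorem singleton_mem_J {T T' : Over S} (p : T' ⟶ T) [Flat p.left] [LocallyOfFinitePresentation p.left]
    [Surjective p.left] : Sieve.ofArrows (fun _ : PUnit.{u + 1} => T') (fun _ => p) ∈ AlgSp.J S T := by
  rw [GrothendieckTopology.mem_over_iff]
  have hm : Presieve.ofArrows (fun _ : PUnit.{u + 1} => T'.left) (fun _ => p.left) ∈
      Scheme.precoverage (@Flat ⊓ @LocallyOfFinitePresentation) T.left :=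
    (Scheme.ofArrows_mem_precoverage_iff _).2
      ⟨fun t => ⟨PUnit.unit, p.left.surjective t⟩, fun _ => ⟨‹_›, ‹_›⟩⟩
  refine GrothendieckTopology.superset_covering _ ?_ (Precoverage.generate_mem_toGrothendieck hm)
  rintro Z _ ⟨Y, g, _, ⟨a⟩, rfl⟩
  rw [Sieve.overEquiv_iff]
  exact ⟨T', Over.homMk g (by simp), p, Presieve.ofArrows.mk a, by ext; simp⟩

variable {M : Type} [AddCommGroup M] [AddGroup.FG M] {X U : Over S} (aX : MonAct (AMonS S M) X)
  (aU : MonAct (AMonS S M) U) (f : U ⟶ X) (hf : MonAct.IsEquivariant aU aX f)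

omit [AddGroup.FG M] in
theorem attrToX_map {N : AddSubmonoid M} {Y : Over S} (a : MonAct (AMonS S M) Y) {T T' : Over S} (t : T' ⟶ T)
    (φ : (attr a N).obj (op T)) :
    (attrToX a N).app (op T') ((attr a N).map t.op φ) = t ≫ (attrToX a N).app (op T) φ := by
  show lift (toUnit T' ≫ η[AMonS S N]) (𝟙 T') ≫ (AMonS S N ◁ t) ≫ φ.1 =
    t ≫ lift (toUnit T ≫ η[AMonS S N]) (𝟙 T) ≫ φ.1
  rw [lift_whiskerLeft_assoc, comp_lift_assoc, comp_toUnit_assoc, Category.comp_id, Category.id_comp]

omit [AddGroup.FG M] in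
theorem attrToX_attrMap {N L : AddSubmonoid M} {Y : Over S} (a : MonAct (AMonS S M) Y) (h : N ≤ L) {T : Over S}
    (φ : (attr a N).obj (op T)) :
    (attrToX a L).app (op T) ((attrMap a h).app (op T) φ) = (attrToX a N).app (op T) φ := by
  show lift (toUnit T ≫ η[AMonS S L]) (𝟙 T) ≫ (AMonS.map S (AddSubmonoid.inclusion h) ▷ T) ≫ φ.1 = _
  rw [lift_whiskerRight_assoc, Category.assoc, IsMonHom.one_hom]
  rfl

/-- A point of the attractor of `X` lifts étale locally to the atlas. -/
theorem exists_local_lift [IsAffineHom U.hom] [Etale f.left] [Surjective f.left] (N : AddSubmonoid M)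
    (Z : AddSubgroup M) (hQ : IsFace N Z.toAddSubmonoid)
    (hfZ : MonAct.IsEquivariant (aU.restrict (AMonS.map S (QuotientAddGroup.mk' Z)))
      (aX.restrict (AMonS.map S (QuotientAddGroup.mk' Z))) f)
    (hfpr : IsPullback (MonAct.fixedPsh.map f hfZ)
      (MonAct.fixedPshι (aU.restrict (AMonS.map S (QuotientAddGroup.mk' Z))))
      (MonAct.fixedPshι (aX.restrict (AMonS.map S (QuotientAddGroup.mk' Z)))) (yoneda.map f))
    (h : N.FG ∨ (IsSeparated X.hom ∧ LocallyOfFinitePresentation X.hom))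
    {T : Over S} (φ : (attr aX N).obj (op T)) :
    ∃ (T' : Over S) (p : T' ⟶ T) (χ : (attr aU N).obj (op T')), Etale p.left ∧ Surjective p.left ∧
      (MonAct.eqvHom.postcomp (subAct S M N) f hf).app (op T') χ = (attr aX N).map p.op φ := by
  let y := (attrFace aX hQ).app (op T) φ
  let x0 : T ⟶ X := (attrToX aX Z.toAddSubmonoid).app (op T) y
  let T' : Over S := Over.mk (Limits.pullback.fst x0.left f.left ≫ T.hom)
  let p : T' ⟶ T := Over.homMk (Limits.pullback.fst _ _) rfl
  let v : T' ⟶ U := Over.homMk (Limits.pullback.snd _ _) (by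
    show _ = Limits.pullback.fst _ _ ≫ T.hom
    rw [← Over.w f, ← Category.assoc, ← pullback.condition, Category.assoc, Over.w x0])
  have hpv : p ≫ x0 = v ≫ f := Over.OverMorphism.ext pullback.condition
  haveI : Etale p.left := inferInstanceAs (Etale (Limits.pullback.fst x0.left f.left))
  haveI : Surjective p.left := inferInstanceAs (Surjective (Limits.pullback.fst x0.left f.left))
  obtain ⟨eU, heU⟩ := H28.MagnetFixed.exists_iso Z aU
  obtain ⟨eX, heX⟩ := H28.MagnetFixed.exists_iso Z aX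
  have hU : ∀ (T : Over S) q, (eU.hom.app (op T) q).1 = (attrToX aU Z.toAddSubmonoid).app (op T) q := fun T q => by
    rw [← heU]; rfl
  have hX : ∀ (T : Over S) q, (eX.hom.app (op T) q).1 = (attrToX aX Z.toAddSubmonoid).app (op T) q := fun T q => by
    rw [← heX]; rfl
  let y' := (attr aX Z.toAddSubmonoid).map p.op y
  have hy' : (attrToX aX Z.toAddSubmonoid).app (op T') y' = v ≫ f := by
    rw [← hpv]
    exact attrToX_map aX p y
  obtain ⟨-, -, hex⟩ := (Types.isPullback_iff _ _ _ _).mp (hfpr.app (op T'))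
  obtain ⟨w, hw, hwv⟩ := hex (eX.hom.app (op T') y') v ((hX T' y').trans hy')
  obtain ⟨ψ, rfl⟩ : ∃ ψ, eU.hom.app (op T') ψ = w :=
    ((eU.app (op T')).toEquiv).surjective w
  have hψ : (MonAct.eqvHom.postcomp (subAct S M Z.toAddSubmonoid) f hf).app (op T') ψ = y' := by
    refine ((eX.app (op T')).toEquiv).injective (Subtype.ext ?_)
    show (eX.hom.app (op T') _).1 = (eX.hom.app (op T') y').1
    rw [hX, ← hw]
    show _ = (eU.hom.app (op T') ψ).1 ≫ f
    rw [hU]
    exact (Category.assoc (lift (toUnit T' ≫ η[AMonS S Z.toAddSubmonoid]) (𝟙 T')) ψ.1 f).symm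
  let aX' : AlgGrp.Action (Red.DS S M) X := { act := aX.act, one_act := aX.one_act, mul_act := aX.mul_act }
  let aU' : AlgGrp.Action (Red.DS S M) U := { act := aU.act, one_act := aU.one_act, mul_act := aU.mul_act }
  obtain ⟨-, -, hex2⟩ := (Types.isPullback_iff _ _ _ _).mp
    ((S18302.result S M X U aX' aU' f hf N Z.toAddSubmonoid hQ h).app (op T'))
  obtain ⟨χ, hχ, -⟩ := hex2 ((attr aX N).map p.op φ) ψ (by
    refine (ConcreteCategory.congr_hom ((attrFace aX hQ).naturality p.op) φ).trans ?_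
    exact hψ.symm)
  exact ⟨T', p, χ, inferInstance, inferInstance, hχ⟩

include hf in
/-- Images of attractors in `X` are controlled by those in an atlas reflecting fixed points. -/
theorem inAttr_of_atlas [IsSeparated X.hom] [LocallyOfFinitePresentation X.hom] [IsAffineHom U.hom] [Etale f.left]
    [Surjective f.left] (N L : AddSubmonoid M) (Z : AddSubgroup M) (hQ : IsFace N Z.toAddSubmonoid)
    (hfZ : MonAct.IsEquivariant (aU.restrict (AMonS.map S (QuotientAddGroup.mk' Z)))
      (aX.restrict (AMonS.map S (QuotientAddGroup.mk' Z))) f)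
    (hfpr : IsPullback (MonAct.fixedPsh.map f hfZ)
      (MonAct.fixedPshι (aU.restrict (AMonS.map S (QuotientAddGroup.mk' Z))))
      (MonAct.fixedPshι (aX.restrict (AMonS.map S (QuotientAddGroup.mk' Z)))) (yoneda.map f))
    (hU : ∀ (T : Over S) (u : T ⟶ U), H28.MagnetAff.InAttr N aU u → H28.MagnetAff.InAttr L aU u)
    {T : Over S} {x : T ⟶ X} (hx : H28.MagnetAff.InAttr N aX x) : H28.MagnetAff.InAttr L aX x := by
  obtain ⟨φ, rfl⟩ := hx
  obtain ⟨T', p, χ, _, _, hχ⟩ := exists_local_lift aX aU f hf N Z hQ hfZ hfpr (Or.inr ⟨‹_›, ‹_›⟩) φ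
  obtain ⟨χ', hχ'⟩ := hU T' _ ⟨χ, rfl⟩
  let φ' := (MonAct.eqvHom.postcomp (subAct S M L) f hf).app (op T') χ'
  have hv : (attrToX aX L).app (op T') φ' = p ≫ (attrToX aX N).app (op T) φ := by
    rw [← attrToX_map]
    refine Eq.trans ?_ (congrArg ((attrToX aX N).app (op T')) hχ)
    have hχ'' : lift (toUnit T' ≫ η[AMonS S L]) (𝟙 T') ≫ χ'.1 = lift (toUnit T' ≫ η[AMonS S N]) (𝟙 T') ≫ χ.1 := hχ'
    show lift (toUnit T' ≫ η[AMonS S L]) (𝟙 T') ≫ χ'.1 ≫ f = lift (toUnit T' ≫ η[AMonS S N]) (𝟙 T') ≫ χ.1 ≫ f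
    rw [← Category.assoc, hχ'', Category.assoc]
  have hsh := (Presieve.isSheafFor_iff_generate _).2
    (((isSheaf_iff_isSheaf_of_type _ _).1 (S18294.result S (AMonS S M) (AMonS S L) X (subAct S M L) aX)) _
      (singleton_mem_J p))
  obtain ⟨t, ht, -⟩ := (Presieve.isSheafFor_arrows_iff _ _).1 hsh (fun _ => φ') (fun _ _ Z' g g' hgg' => by
    refine MagnetLib.attrToX_injective aX L Z' ?_
    show (attrToX aX L).app (op Z') ((attr aX L).map g.op φ') = (attrToX aX L).app (op Z') ((attr aX L).map g'.op φ')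
    rw [attrToX_map, attrToX_map]
    rw [hv, ← Category.assoc, hgg', Category.assoc])
  refine ⟨t, ?_⟩
  apply Over.OverMorphism.ext
  rw [← cancel_epi p.left, ← Over.comp_left, ← Over.comp_left, ← hv, ← ht PUnit.unit]
  exact congrArg Over.Hom.left (attrToX_map aX p t).symm

omit [AddGroup.FG M] in
theorem isFace_units (N : AddSubmonoid M) : IsFace N (H28.StableFace.units N).toAddSubmonoid where
  le _ h := h.1
  mem_of_add_mem x hx y hy hxy := by
    have h : -(x + y) ∈ N := hxy.2
    exact ⟨⟨hx, by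
      have := N.add_mem h hy
      rwa [neg_add, add_assoc, neg_add_cancel, add_zero] at this⟩, ⟨hy, by
      have := N.add_mem h hx
      rwa [neg_add, add_right_comm, neg_add_cancel, zero_add] at this⟩⟩

end Groth.Agent.MagnetLib.Atlas
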